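import Mathlib.NumberTheory.Bernoulli
import Mathlib.NumberTheory.ZetaValues
import Mathlib.RingTheory.PowerSeries.Exp
import Mathlib.RingTheory.PowerSeries.Inverse
import Mathlib.Analysis.Polynomial.Basic
import Mathlib.Tactic

namespace Groth.Agent.Todd52

open PowerSeries Real

theorem bernoulli'_sign {k : ℕ} (hk : k ≠ 0) : 0 < (-1 : ℚ) ^ (k + 1) * bernoulli' (2 * k) := by
  have h := hasSum_zeta_nat hk
  set A : ℝ := (-1 : ℝ) ^ (k + 1) * (2 : ℝ) ^ (2 * k - 1) * π ^ (2 * k) * bernoulli (2 * k) / (2 * k).factorial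
  have hA : 1 ≤ A := by
    have := le_hasSum h 1 (fun j _ => by positivity)
    simpa using this
  have hb : (0 : ℝ) < (((-1 : ℚ) ^ (k + 1) * bernoulli' (2 * k) : ℚ) : ℝ) := by
    push_cast
    have hpos : (0 : ℝ) < (2 : ℝ) ^ (2 * k - 1) * π ^ (2 * k) / (2 * k).factorial := by positivity
    refine pos_of_mul_pos_left ?_ hpos.le
    refine lt_of_lt_of_le one_pos (hA.trans (le_of_eq ?_))
    simp only [A, bernoulli_eq_bernoulli'_of_ne_one (show 2 * k ≠ 1 by omega)]
    ring
  exact_mod_cast hb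

theorem bernoulli'_four_mul_neg {m : ℕ} (hm : m ≠ 0) : bernoulli' (4 * m) < 0 := by
  have h := bernoulli'_sign (k := 2 * m) (by omega)
  rw [pow_succ, pow_mul, neg_one_sq, one_pow, one_mul, ← mul_assoc] at h
  norm_num at h
  exact h

theorem bernoulli'_four_mul_add_two_pos (m : ℕ) : 0 < bernoulli' (4 * m + 2) := by
  have h := bernoulli'_sign (k := 2 * m + 1) (by omega)
  rw [show 2 * m + 1 + 1 = 2 * (m + 1) by ring, pow_mul, neg_one_sq, one_pow, one_mul,
    show 2 * (2 * m + 1) = 4 * m + 2 by ring] at h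
  exact h

/-- The inverse of the rescaled series `bernoulli'PowerSeries (-x)`. -/
noncomputable def invB : ℚ⟦X⟧ := mk fun n => 1 / ((n + 1).factorial : ℚ)

theorem X_mul_invB : X * invB = exp ℚ - 1 := by
  ext n
  cases n with
  | zero => simp
  | succ n => simp [invB, PowerSeries.coeff_succ_X_mul, coeff_exp]

theorem exp_sub_one_ne_zero : exp ℚ - 1 ≠ 0 := by
  intro h
  have := congrArg (coeff 1) h
  simp [coeff_exp] at this

theorem exp_mul_exp_neg : exp ℚ * rescale (-1 : ℚ) (exp ℚ) = 1 := exp_mul_exp_neg_eq_one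

theorem rescale_neg_one_eq :
    rescale (-1 : ℚ) (bernoulli'PowerSeries ℚ) = bernoulli'PowerSeries ℚ * rescale (-1 : ℚ) (exp ℚ) := by
  refine mul_right_cancel₀ exp_sub_one_ne_zero ?_
  have h := bernoulli'PowerSeries_mul_exp_sub_one ℚ
  have hneg := congrArg (rescale (-1 : ℚ)) h
  rw [map_mul, map_mul, map_sub, map_one] at hneg
  have hX : rescale (-1 : ℚ) (X : ℚ⟦X⟧) = -X := by simp [rescale_X]
  rw [hX] at hneg
  set E := rescale (-1 : ℚ) (exp ℚ)
  set B := bernoulli'PowerSeries ℚ
  have hE : exp ℚ * E = 1 := exp_mul_exp_neg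
  linear_combination (-(exp ℚ)) * hneg + (rescale (-1 : ℚ) B + X) * hE - E * h - X * hE

theorem rescale_neg_mul_invB :
    rescale (-1 : ℚ) (bernoulli'PowerSeries ℚ) * invB = 1 := by
  refine mul_right_cancel₀ (b := (X : ℚ⟦X⟧)) X_ne_zero ?_
  rw [rescale_neg_one_eq, mul_assoc, mul_assoc, mul_comm invB X, X_mul_invB, one_mul]
  linear_combination rescale (-1 : ℚ) (exp ℚ) * bernoulli'PowerSeries_mul_exp_sub_one ℚ +
    X * exp_mul_exp_neg

theorem inv_rescale_neg (d : ℚ) :
    (rescale (-d) (bernoulli'PowerSeries ℚ))⁻¹ = rescale d invB := by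
  have h0 : constantCoeff (rescale (-d) (bernoulli'PowerSeries ℚ)) ≠ 0 := by
    rw [← coeff_zero_eq_constantCoeff_apply, coeff_rescale]
    simp [bernoulli'PowerSeries, coeff_mk]
  symm
  rw [PowerSeries.eq_inv_iff_mul_eq_one h0]
  have h := congrArg (rescale d) rescale_neg_mul_invB
  rw [map_mul, map_one, rescale_rescale, neg_one_mul] at h
  rw [mul_comm]
  exact h

theorem rescale_neg_mul_exp (t c : ℚ) :
    rescale (-t) (bernoulli'PowerSeries ℚ) * rescale (t + c) (exp ℚ) =
      rescale t (bernoulli'PowerSeries ℚ) * rescale c (exp ℚ) := by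
  have h := congrArg (rescale t) rescale_neg_one_eq
  rw [map_mul, rescale_rescale, rescale_rescale, neg_one_mul] at h
  rw [h, mul_assoc, exp_mul_exp_eq_exp_add, neg_add_cancel_left]

/-- The series independent of `p`. -/
noncomputable def rest (d : ℚ) (m : ℕ) (c : ℚ) : ℚ⟦X⟧ :=
  rescale d invB * bernoulli'PowerSeries ℚ ^ m * rescale c (exp ℚ)

theorem todd_eq (d q c : ℚ) (m : ℕ) :
    (rescale (-d) (bernoulli'PowerSeries ℚ))⁻¹ * rescale (-q) (bernoulli'PowerSeries ℚ) *
        bernoulli'PowerSeries ℚ ^ m * rescale (q + c) (exp ℚ) =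
      rescale q (bernoulli'PowerSeries ℚ) * rest d m c := by
  rw [inv_rescale_neg, rest]
  linear_combination (rescale d invB * bernoulli'PowerSeries ℚ ^ m) * rescale_neg_mul_exp q c

theorem coeff_rescale_bernoulli (q : ℚ) (k : ℕ) :
    coeff k (rescale q (bernoulli'PowerSeries ℚ)) = bernoulli' k * q ^ k / (k.factorial : ℚ) := by
  rw [coeff_rescale]
  simp [bernoulli'PowerSeries, coeff_mk]
  ring

theorem constantCoeff_pow_bernoulli (m : ℕ) :
    coeff 0 (bernoulli'PowerSeries ℚ ^ m) = 1 := by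
  rw [coeff_zero_eq_constantCoeff_apply, map_pow, ← coeff_zero_eq_constantCoeff_apply]
  simp [bernoulli'PowerSeries, coeff_mk]

theorem coeff_mul_one' (f g : ℚ⟦X⟧) : coeff 1 (f * g) = coeff 0 f * coeff 1 g + coeff 1 f * coeff 0 g := by
  simp [coeff_mul, Finset.Nat.sum_antidiagonal_succ]

theorem coeff_mul_two' (f g : ℚ⟦X⟧) :
    coeff 2 (f * g) = coeff 0 f * coeff 2 g + coeff 1 f * coeff 1 g + coeff 2 f * coeff 0 g := by
  simp [coeff_mul, Finset.Nat.sum_antidiagonal_succ, add_assoc]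

theorem coeff_mul_three' (f g : ℚ⟦X⟧) :
    coeff 3 (f * g) = coeff 0 f * coeff 3 g + coeff 1 f * coeff 2 g + coeff 2 f * coeff 1 g +
      coeff 3 f * coeff 0 g := by
  simp [coeff_mul, Finset.Nat.sum_antidiagonal_succ, add_assoc]

theorem coeff_one_pow_bernoulli (m : ℕ) :
    coeff 1 (bernoulli'PowerSeries ℚ ^ m) = (m : ℚ) / 2 := by
  induction m with
  | zero => simp
  | succ m ih =>
    rw [pow_succ, coeff_mul_one', ih, constantCoeff_pow_bernoulli]
    simp [bernoulli'PowerSeries, coeff_mk, bernoulli'_one]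
    ring

theorem coeff_zero_rest (d c : ℚ) (m : ℕ) : coeff 0 (rest d m c) = 1 := by
  rw [coeff_zero_eq_constantCoeff_apply, rest, map_mul, map_mul, ← coeff_zero_eq_constantCoeff_apply,
    ← coeff_zero_eq_constantCoeff_apply, ← coeff_zero_eq_constantCoeff_apply, coeff_rescale, coeff_rescale,
    constantCoeff_pow_bernoulli]
  simp [invB, coeff_exp]

theorem coeff_one_rest (d c : ℚ) (m : ℕ) : coeff 1 (rest d m c) = d / 2 + (m : ℚ) / 2 + c := by
  rw [rest, coeff_mul_one', coeff_mul_one']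
  have : coeff 0 (rescale d invB * bernoulli'PowerSeries ℚ ^ m) = 1 := by
    rw [coeff_zero_eq_constantCoeff_apply, map_mul, ← coeff_zero_eq_constantCoeff_apply,
      ← coeff_zero_eq_constantCoeff_apply, coeff_rescale, constantCoeff_pow_bernoulli]
    simp [invB]
  rw [this, coeff_one_pow_bernoulli, constantCoeff_pow_bernoulli, coeff_rescale, coeff_rescale, coeff_rescale,
    coeff_rescale]
  simp [invB, coeff_exp, Nat.factorial]
  ring

open Polynomial in
/-- The coefficient is a polynomial in `q`, with the two leading terms known. -/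
theorem coeff_expansion (n : ℕ) (hn : 2 ≤ n) (d c : ℚ) :
    ∃ P : Polynomial ℚ, P.natDegree ≤ n - 2 ∧ ∀ q : ℚ,
      PowerSeries.coeff n (rescale (d * q) (bernoulli'PowerSeries ℚ) * rest d (n + 1) c) =
        bernoulli' n * (d * q) ^ n / (n.factorial : ℚ) +
          (d / 2 + ((n : ℚ) + 1) / 2 + c) * bernoulli' (n - 1) * (d * q) ^ (n - 1) / ((n - 1).factorial : ℚ) +
          P.eval q := by
  obtain ⟨m, rfl⟩ : ∃ m, n = m + 2 := ⟨n - 2, by omega⟩
  refine ⟨∑ k ∈ Finset.range (m + 1), Polynomial.C (bernoulli' k * d ^ k / (k.factorial : ℚ) *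
    PowerSeries.coeff (m + 2 - k) (rest d (m + 3) c)) * Polynomial.X ^ k, ?_, fun q => ?_⟩
  · refine Polynomial.natDegree_sum_le_of_forall_le _ _ fun k hk => (Polynomial.natDegree_C_mul_X_pow_le _ _).trans ?_
    rw [Finset.mem_range] at hk
    omega
  · rw [PowerSeries.coeff_mul, Finset.Nat.sum_antidiagonal_eq_sum_range_succ_mk, Finset.sum_range_succ,
      Finset.sum_range_succ, Polynomial.eval_finset_sum]
    simp only [coeff_rescale_bernoulli, show m + 2 - (m + 1) = 1 by omega, Nat.sub_self, coeff_zero_rest,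
      coeff_one_rest, Polynomial.eval_mul, Polynomial.eval_C, Polynomial.eval_pow, Polynomial.eval_X,
      show m + 2 - 1 = m + 1 by omega]
    rw [Finset.sum_congr rfl fun k _ => (show bernoulli' k * (d * q) ^ k / (k.factorial : ℚ) *
      PowerSeries.coeff (m + 2 - k) (rest d (m + 2 + 1) c) = bernoulli' k * d ^ k / (k.factorial : ℚ) *
      PowerSeries.coeff (m + 2 - k) (rest d (m + 3) c) * q ^ k by rw [mul_pow]; ring)]
    push_cast
    ring

theorem eval_eventually_neg (P : Polynomial ℚ) (n : ℕ) (hP : P.natDegree ≤ n) (hn : 0 < n)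
    (hc : P.coeff n < 0) : ∃ N : ℕ, ∀ p : ℕ, N ≤ p → P.eval (p : ℚ) < 0 := by
  have hdeg : P.natDegree = n := le_antisymm hP (Polynomial.le_natDegree_of_ne_zero hc.ne)
  have hpos : 0 < P.degree := Polynomial.natDegree_pos_iff_degree_pos.mp (by omega)
  have hlead : P.leadingCoeff ≤ 0 := by rw [Polynomial.leadingCoeff, hdeg]; exact hc.le
  have ht := (P.tendsto_atBot_of_leadingCoeff_nonpos hpos hlead).comp tendsto_natCast_atTop_atTop
  obtain ⟨N, hN⟩ := (ht.eventually (Filter.eventually_lt_atBot 0)).exists_forall_of_atTop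
  exact ⟨N, hN⟩

theorem eventually_neg_of (n : ℕ) (hn : 2 ≤ n) (d g : ℚ) (P : Polynomial ℚ) (hP : P.natDegree ≤ n - 2)
    (hd : 0 < d)
    (h : bernoulli' n < 0 ∨ (bernoulli' n = 0 ∧ g * bernoulli' (n - 1) < 0)) :
    ∃ N : ℕ, ∀ p : ℕ, N ≤ p →
      bernoulli' n * (d * p) ^ n / (n.factorial : ℚ) +
          g * bernoulli' (n - 1) * (d * p) ^ (n - 1) / ((n - 1).factorial : ℚ) + P.eval (p : ℚ) < 0 := by
  set Q : Polynomial ℚ := Polynomial.C (bernoulli' n * d ^ n / (n.factorial : ℚ)) * Polynomial.X ^ n +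
    Polynomial.C (g * bernoulli' (n - 1) * d ^ (n - 1) / ((n - 1).factorial : ℚ)) * Polynomial.X ^ (n - 1) + P
    with hQ
  have hev : ∀ p : ℕ, bernoulli' n * (d * p) ^ n / (n.factorial : ℚ) +
      g * bernoulli' (n - 1) * (d * p) ^ (n - 1) / ((n - 1).factorial : ℚ) + P.eval (p : ℚ) = Q.eval (p : ℚ) := by
    intro p
    simp only [hQ, Polynomial.eval_add, Polynomial.eval_mul, Polynomial.eval_C, Polynomial.eval_pow,
      Polynomial.eval_X, mul_pow]
    ring
  simp only [hev]
  have hP0 : ∀ k, n - 2 < k → P.coeff k = 0 := fun k hk => Polynomial.coeff_eq_zero_of_natDegree_lt (by omega)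
  rcases h with h | ⟨h, hg⟩
  · refine eval_eventually_neg Q n ?_ (by omega) ?_
    · refine (Polynomial.natDegree_add_le _ _).trans (max_le ((Polynomial.natDegree_add_le _ _).trans (max_le ?_ ?_)) (by omega))
      · exact Polynomial.natDegree_C_mul_X_pow_le _ _
      · exact (Polynomial.natDegree_C_mul_X_pow_le _ _).trans (by omega)
    · simp only [hQ, Polynomial.coeff_add, Polynomial.coeff_C_mul_X_pow, if_neg (show n ≠ n - 1 by omega), if_pos,
        hP0 n (by omega), add_zero]
      exact div_neg_of_neg_of_pos (mul_neg_of_neg_of_pos h (by positivity)) (by positivity)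
  · refine eval_eventually_neg Q (n - 1) ?_ (by omega) ?_
    · rw [hQ, h]
      simp only [zero_mul, zero_div, map_zero, zero_add]
      exact (Polynomial.natDegree_add_le _ _).trans (max_le (Polynomial.natDegree_C_mul_X_pow_le _ _) (by omega))
    · simp only [hQ, Polynomial.coeff_add, Polynomial.coeff_C_mul_X_pow, if_neg (show n - 1 ≠ n by omega), if_pos,
        hP0 (n - 1) (by omega), add_zero, zero_add]
      exact div_neg_of_neg_of_pos (mul_neg_of_neg_of_pos hg (by positivity)) (by positivity)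

end Groth.Agent.Todd52
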